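import Cfsg.Agent.Lib.Comp.U43h.Base

set_option maxRecDepth 100000
set_option Elab.async false

namespace Cfsg.Lib.Comp.U43h

universe u

noncomputable def T0_R : List (List ℕ × ℕ) := (apd [([1],1),
 ([2],1),
 ([3],1),
 ([4],1),
 ([5],1),
 ([6],1),
 ([7],1),
 ([1,2],1),
 ([1,3],1),
 ([1,4],1),
 ([1,5],1),
 ([1,6],1),
 ([1,7],1),
 ([2,3],1),
 ([2,4],1),
 ([2,5],1),
 ([2,6],1),
 ([2,7,2,7,1],0),
 ([3,4],1),
 ([3,5,3,5,1],0),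
 ([3,6,3,6,2],0),
 ([3,7,3,7,1],0),
 ([4,5,4,5,2,1],0),
 ([4,6,4,6,1],0),
 ([4,7,4,7,3,2,1],0),
 ([5,6],1),
 ([5,7],1),
 ([6,7,6,7,5],0),
 ([8],2),
 ([8,1,9,1],0),
 ([8,2,9,2,3],0),
 ([8,3,9,2],0),
 ([8,4,9,4],0),
 ([8,5,9,7],0),
 ([8,7,9,5,7],0),
 ([6,8],1),
 ([10],2),
 ([10,1,11,1],0),
 ([10,2,11,5],0),
 ([10,3,11,5,7],0)]
 [([10,5,11,1,2,5],0),
 ([10,6,11,6],0),
 ([10,7,11,2,7,3],0),
 ([4,10],1),
 ([8,10,9,11],0),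
 ([8,9],0),
 ([10,11],0)])

noncomputable def T0_n_4 : Net :=
 (Net.cons 1 (nat_lit 0x2)
 Net.nil)

noncomputable def T0_n_10 : Net :=
 (Net.cons 1 (nat_lit 0x2)
 (Net.cons 1 (nat_lit 0x1)
 Net.nil))

noncomputable def T0_n : List Net := [Net.nil,
 Net.nil,
 Net.nil,
 Net.nil,
 T0_n_4,
 Net.nil,
 Net.nil,
 Net.nil,
 Net.nil,
 Net.nil,
 T0_n_10,
 Net.rev T0_n_10]

theorem T0_n_ok : NetsOK 3 T0_n := netsOK_of (by decide +kernel)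

theorem T0_n_rel : Rels (gp T0_n) T0_R := rels_of_relsB (k := 2) T0_n_ok (by norm_num) (by decide +kernel)

theorem T0_fin : finB 3 T0_n [1,2,3,4,5,6,7,8,9,10,11] 3 (runH 3 T0_n (fun x p => ptInv (nth Net.nil T0_n x) p) iv T0_R [] ([1,2,3,4,5,6,7,8,9].map fun x => [x]) 0 []
  [1,5,9,13,17,21,25,29,33,184,144,148,152,156,160,164,168,172,176,180,184,12]
  (defsH 3 T0_n (ones 36) [10,11] (Nat.shiftLeft 1 0) 0)) = true := by decide +kernel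

theorem T0_idx : Idx.{u} iv (T0_R ++ []) ([1,2,3,4,5,6,7,8,9].map fun x => [x]) [1,2,3,4,5,6,7,8,9,10,11] 3 :=
  Reach.idx T0_n_ok (reach_runH T0_n_ok (fun x p _ => ptInv_gp T0_n_ok x p) T0_n_rel (reach_defsH T0_n_ok _ _ _ _ _ _) _ _) T0_fin (by norm_num)

end Cfsg.Lib.Comp.U43h
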